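import Groth.Agent.PerfectionLib.Mile
import Groth.Agent.S2075
import Groth.Agent.S0591
import Groth.Agent.S2151

/-! The perfection as the limit of the tower of absolute Frobenii, and descent along it. -/

universe u

open CategoryTheory Limits Opposite AlgebraicGeometry

set_option autoImplicit false
set_option maxHeartbeats 2000000
set_option backward.isDefEq.respectTransparency false

namespace Groth.Agent.PerfTowerLib

variable (p : ℕ) [Fact p.Prime] (Y : Scheme.{u}) [FrobSch.IsCharP Y p]

noncomputable def fpow : ℕ → (Y ⟶ Y)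
  | 0 => 𝟙 Y
  | n + 1 => FrobSch.frob Y p ≫ fpow n

theorem fpow_zero : fpow p Y 0 = 𝟙 Y := rfl

theorem fpow_succ (n : ℕ) : fpow p Y (n + 1) = FrobSch.frob Y p ≫ fpow p Y n := rfl

theorem fpow_add : ∀ m n : ℕ, fpow p Y (m + n) = fpow p Y n ≫ fpow p Y m := by
  intro m n
  induction n with
  | zero => rw [fpow_zero, Category.id_comp, Nat.add_zero]
  | succ n ih => rw [← Nat.add_assoc, fpow_succ, fpow_succ, ih, Category.assoc]

theorem fpow_comp {X : Scheme.{u}} [FrobSch.IsCharP X p] (f : Y ⟶ X) :
    ∀ n : ℕ, fpow p Y n ≫ f = f ≫ fpow p X n := by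
  intro n
  induction n with
  | zero => rw [fpow_zero, fpow_zero, Category.id_comp, Category.comp_id]
  | succ n ih => rw [fpow_succ, fpow_succ, Category.assoc, ih, FrobSch.frob_comp_assoc p f]

theorem isAffineHom_frob : IsAffineHom (FrobSch.frob Y p) := ⟨fun _ hU => hU⟩

theorem isAffineHom_fpow : ∀ n : ℕ, IsAffineHom (fpow p Y n) := by
  intro n
  induction n with
  | zero => rw [fpow_zero]; infer_instance
  | succ n ih =>
      rw [fpow_succ]
      have := isAffineHom_frob p Y
      infer_instance

theorem isIso_fpow (hY : FrobSch.IsPerfect Y p) : ∀ n : ℕ, IsIso (fpow p Y n) := by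
  intro n
  induction n with
  | zero => rw [fpow_zero]; infer_instance
  | succ n ih => rw [fpow_succ]; infer_instance

noncomputable def tower : (ULift.{u} ℕ)ᵒᵖ ⥤ Scheme.{u} where
  obj _ := Y
  map {a b} _ := fpow p Y (a.unop.down - b.unop.down)
  map_id a := by rw [Nat.sub_self, fpow_zero]
  map_comp {a b c} f g := by
    rw [← fpow_add]
    have h1 : b.unop.down ≤ a.unop.down := f.unop.le
    have h2 : c.unop.down ≤ b.unop.down := g.unop.le
    congr 1
    omega

instance isAffineHom_tower (a b : (ULift.{u} ℕ)ᵒᵖ) (f : a ⟶ b) : IsAffineHom ((tower p Y).map f) :=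
  isAffineHom_fpow p Y _

noncomputable abbrev proj (c : Cone (tower p Y)) (n : ℕ) : c.pt ⟶ Y := c.π.app (op ⟨n⟩)

theorem exists_tower_perfection [CompactSpace Y] [QuasiSeparatedSpace Y] :
    ∃ (c : Cone (tower p Y)) (_ : IsLimit c),
      (∀ n : ℕ, proj p Y c n ≫ fpow p Y n = proj p Y c 0) ∧
      ∀ [FrobSch.IsCharP c.pt p], FrobSch.IsPerfection (proj p Y c 0) p := by
  obtain ⟨c, hc, -⟩ := Groth.Agent.S2151.result (tower p Y)
  have hw : ∀ a b : ℕ, b ≤ a → proj p Y c a ≫ fpow p Y (a - b) = proj p Y c b :=
    fun a b h => c.w (show (op ⟨a⟩ : (ULift.{u} ℕ)ᵒᵖ) ⟶ op ⟨b⟩ from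
      (homOfLE (show (⟨b⟩ : ULift.{u} ℕ) ≤ ⟨a⟩ from h)).op)
  have hw1 : ∀ n : ℕ, proj p Y c (n + 1) ≫ FrobSch.frob Y p = proj p Y c n := by
    intro n
    have h := hw (n + 1) n (Nat.le_succ n)
    simpa [fpow_succ, fpow_zero] using h
  refine ⟨c, hc, fun n => ?_, ?_⟩
  · simpa using hw n 0 (Nat.zero_le _)
  intro _
  have hperf : FrobSch.IsPerfect c.pt p := by
    let s : Cone (tower p Y) :=
      { pt := c.pt
        π :=
          { app := fun i => proj p Y c (i.unop.down + 1)
            naturality := fun a b f => by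
              have h1 : b.unop.down ≤ a.unop.down := f.unop.le
              have h2 := hw (a.unop.down + 1) (b.unop.down + 1) (Nat.add_le_add_right h1 1)
              rw [Nat.add_sub_add_right] at h2
              simp only [Functor.const_obj_map, Category.id_comp]
              exact h2.symm } }
    refine ⟨⟨hc.lift s, hc.hom_ext fun i => ?_, hc.hom_ext fun i => ?_⟩⟩
    · rw [Category.assoc, Category.id_comp, hc.fac s i]
      exact (FrobSch.frob_comp p (proj p Y c (i.unop.down + 1))).trans (hw1 _)
    · rw [Category.assoc, Category.id_comp]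
      refine (congrArg (hc.lift s ≫ ·) (FrobSch.frob_comp p (proj p Y c i.unop.down))).trans ?_
      rw [← Category.assoc, hc.fac s i]
      exact hw1 _
  refine ⟨hperf, fun T _ hT => ⟨fun l₁ l₂ h => hc.hom_ext fun i => ?_, fun g => ?_⟩⟩
  · have := isIso_fpow p T hT i.unop.down
    have h0 : proj p Y c i.unop.down ≫ fpow p Y i.unop.down = proj p Y c 0 := by
      simpa using hw i.unop.down 0 (Nat.zero_le _)
    rw [← cancel_epi (fpow p T i.unop.down)]
    refine ((fpow_comp p T (l₁ ≫ proj p Y c i.unop.down) _).trans ?_).trans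
      (fpow_comp p T (l₂ ≫ proj p Y c i.unop.down) _).symm
    rw [Category.assoc, Category.assoc, h0]
    exact h
  · have hi : ∀ n : ℕ, IsIso (fpow p T n) := isIso_fpow p T hT
    let s : Cone (tower p Y) :=
      { pt := T
        π :=
          { app := fun i => inv (fpow p T i.unop.down) ≫ g
            naturality := fun a b f => by
              have h1 : b.unop.down ≤ a.unop.down := f.unop.le
              simp only [Functor.const_obj_map, Category.id_comp]
              change inv (fpow p T b.unop.down) ≫ g =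
                (inv (fpow p T a.unop.down) ≫ g) ≫ fpow p Y (a.unop.down - b.unop.down)
              have h2 : inv (fpow p T a.unop.down) ≫ fpow p T (a.unop.down - b.unop.down) =
                  inv (fpow p T b.unop.down) := by
                rw [IsIso.inv_comp_eq, IsIso.eq_comp_inv, ← fpow_add, Nat.add_sub_cancel' h1]
              rw [Category.assoc, ← fpow_comp p T g, ← Category.assoc, h2] } }
    refine ⟨hc.lift s, (hc.fac s _).trans ?_⟩
    change inv (fpow p T 0) ≫ g = g
    simp [fpow_zero]

end Groth.Agent.PerfTowerLib
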